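import Groth.Agent.H4Cech.Compare
import Mathlib.RingTheory.Derivation.Basic

/-!
# Derivations act on Čech cohomology
-/

set_option autoImplicit false
set_option linter.unusedSectionVars false

universe u

open CategoryTheory CategoryTheory.Limits HomologicalComplex

namespace Groth.Agent.H4DerLC

open Groth.Agent.H4Cech

variable {A : Type u} [CommRing A] (θ : Derivation ℤ A A)

/-- The Leibniz rule. -/
def Leib {X : Type u} [AddCommGroup X] [Module A X] (D : X →+ X) : Prop :=
  ∀ (a : A) (x : X), D (a • x) = θ a • x + a • D x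

/-- The module `X × X` twisted by the derivation. -/
def Tw (_θ : Derivation ℤ A A) (X : Type u) : Type u := X × X

variable (X : Type u) [AddCommGroup X] [Module A X]

instance : AddCommGroup (Tw θ X) := inferInstanceAs (AddCommGroup (X × X))

instance : SMul A (Tw θ X) := ⟨fun a z => ((a • z.1, θ a • z.1 + a • z.2) : X × X)⟩

theorem tw_fst (a : A) (z : Tw θ X) : (a • z).1 = a • z.1 := rfl

theorem tw_snd (a : A) (z : Tw θ X) : (a • z).2 = θ a • z.1 + a • z.2 := rfl

theorem tw_add (z w : Tw θ X) : (z + w).1 = z.1 + w.1 ∧ (z + w).2 = z.2 + w.2 := ⟨rfl, rfl⟩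

instance : Module A (Tw θ X) where
  one_smul z := Prod.ext ((tw_fst θ X 1 z).trans (one_smul A _)) (by
    rw [tw_snd, Derivation.map_one_eq_zero, zero_smul, one_smul, zero_add])
  mul_smul a b z := Prod.ext (by simp only [tw_fst, mul_smul]) (by
    simp only [tw_snd, tw_fst, Derivation.leibniz, smul_eq_mul, add_smul, mul_smul, smul_add,
      smul_comm b (θ a)]
    abel)
  smul_zero a := Prod.ext ((tw_fst θ X a 0).trans (smul_zero a)) (by
    show θ a • (0 : X) + a • (0 : X) = 0
    simp)
  smul_add a z w := Prod.ext ((tw_fst θ X a (z + w)).trans (smul_add a _ _)) (by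
    show θ a • (z.1 + w.1) + a • (z.2 + w.2) = (θ a • z.1 + a • z.2) + (θ a • w.1 + a • w.2)
    rw [smul_add, smul_add]; abel)
  add_smul a b z := Prod.ext ((tw_fst θ X (a + b) z).trans (add_smul a b _)) (by
    show θ (a + b) • z.1 + (a + b) • z.2 = (θ a • z.1 + a • z.2) + (θ b • z.1 + b • z.2)
    rw [map_add, add_smul, add_smul]; abel)
  zero_smul z := Prod.ext ((tw_fst θ X 0 z).trans (zero_smul A _)) (by
    show θ 0 • z.1 + (0 : A) • z.2 = 0
    simp)

variable {θ X}

variable {X' : Type u} [AddCommGroup X'] [Module A X'] (S : Submonoid A) (l : X →ₗ[A] X')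
  [IsLocalizedModule S l]

include S l

theorem smul_injective (s : S) : Function.Injective fun z : X' => (s : A) • z :=
  ((Module.End.isUnit_iff _).1 (IsLocalizedModule.map_units l s)).1

/-- A Leibniz operator extends to a localisation. -/
theorem exists_localized {D : X →+ X} (hD : Leib θ D) :
    ∃ D' : X' →+ X', Leib θ D' ∧ ∀ x, D' (l x) = l (D x) := by
  have hu : ∀ s : S, IsUnit (algebraMap A (Module.End A (Tw θ X')) s) := fun s => by
    rw [Module.End.isUnit_iff]
    refine ⟨fun z w h => ?_, fun w => ?_⟩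
    · have h1 : (s : A) • z.1 = (s : A) • w.1 := congrArg Prod.fst (show (s : A) • z = (s : A) • w from h)
      have h2 : θ s • z.1 + (s : A) • z.2 = θ s • w.1 + (s : A) • w.2 :=
        congrArg Prod.snd (show (s : A) • z = (s : A) • w from h)
      have e1 := smul_injective S l s h1
      rw [e1, add_right_inj] at h2
      exact Prod.ext e1 (smul_injective S l s h2)
    · have hsurj := ((Module.End.isUnit_iff _).1 (IsLocalizedModule.map_units l s)).2
      obtain ⟨a, ha⟩ := hsurj w.1
      obtain ⟨b, hb⟩ := hsurj (w.2 - θ s • a)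
      replace ha : (s : A) • a = w.1 := ha
      replace hb : (s : A) • b = w.2 - θ s • a := hb
      refine ⟨((a, b) : X' × X'), ?_⟩
      show ((((s : A) • a, θ s • a + (s : A) • b) : X' × X') : Tw θ X') = w
      rw [ha, hb, add_sub_cancel]
      rfl
  let g : X →ₗ[A] Tw θ X' :=
    { toFun := fun x => ((l x, l (D x)) : X' × X')
      map_add' := fun x y => Prod.ext (map_add l x y) (by
        show l (D (x + y)) = l (D x) + l (D y)
        rw [map_add, map_add])
      map_smul' := fun a x => Prod.ext (map_smul l a x) (by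
        show l (D (a • x)) = θ a • l x + a • l (D x)
        rw [hD, map_add, map_smul, map_smul]) }
  let G := IsLocalizedModule.lift S l g hu
  have hGl : ∀ x, G (l x) = g x := fun x => LinearMap.congr_fun (IsLocalizedModule.lift_comp S l g hu) x
  have hG1 : ∀ z, (G z).1 = z := by
    intro z
    obtain ⟨⟨x, s⟩, hs⟩ := IsLocalizedModule.surj S l z
    refine smul_injective S l s ?_
    show (s : A) • (G z).1 = (s : A) • z
    rw [← tw_fst, ← map_smul, show (s : A) • z = l x from hs, hGl]
    rfl
  refine ⟨AddMonoidHom.mk' (fun z => (G z).2) fun z w => ?_, fun a z => ?_, fun x => ?_⟩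
  · rw [map_add]; rfl
  · show (G (a • z)).2 = θ a • z + a • (G z).2
    rw [map_smul, tw_snd, hG1]
  · show (G (l x)).2 = _
    rw [hGl]
    rfl

/-- A linear map commuting with Leibniz operators, after localisation. -/
theorem localized_comm {Y Y' : Type u} [AddCommGroup Y] [Module A Y] [AddCommGroup Y'] [Module A Y']
    (m : Y →ₗ[A] Y') [IsLocalizedModule S m] (h : X →ₗ[A] Y) (h' : X' →ₗ[A] Y')
    (hl : ∀ x, h' (l x) = m (h x)) {D : X →+ X} {E : Y →+ Y} {D' : X' →+ X'} {E' : Y' →+ Y'}
    (hD : Leib θ D') (hE : Leib θ E') (hDl : ∀ x, D' (l x) = l (D x)) (hEl : ∀ y, E' (m y) = m (E y))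
    (hc : ∀ x, h (D x) = E (h x)) (z : X') : h' (D' z) = E' (h' z) := by
  obtain ⟨⟨x, s⟩, hs⟩ := IsLocalizedModule.surj S l z
  replace hs : (s : A) • z = l x := hs
  refine smul_injective S m s ?_
  show (s : A) • h' (D' z) = (s : A) • E' (h' z)
  have h1 : h' (D' ((s : A) • z)) = E' (h' ((s : A) • z)) := by rw [hs, hDl, hl, hl, hEl, hc]
  rw [hD, map_add, map_smul, map_smul, map_smul, hE, add_right_inj] at h1
  exact h1

end Groth.Agent.H4DerLC

namespace Groth.Agent.H4DerLC

open Groth.Agent.H4Cech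

variable {A : Type u} [CommRing A] (θ : Derivation ℤ A A)

/-- Leibniz operators on the extended Čech complex of the ring. -/
theorem exists_op : ∀ fs : List A, ∃ D : ∀ p : ℤ,
      (DerCA.extCech (ModuleCat.of A A) fs).X p →+ (DerCA.extCech (ModuleCat.of A A) fs).X p,
    (∀ p, Leib θ (D p)) ∧ ∀ p p', p + 1 = p' → ∀ x,
      ((DerCA.extCech (ModuleCat.of A A) fs).d p p').hom (D p x) =
        D p' (((DerCA.extCech (ModuleCat.of A A) fs).d p p').hom x) := by
  intro fs
  induction fs with
  | nil =>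
    let C := DerCA.extCech (ModuleCat.of A A) []
    have h : ∀ p : ℤ, ∃ D : C.X p →+ C.X p, Leib θ D := fun p => by
      by_cases hp : p = 0
      · subst hp
        let e : C.X 0 ≃ₗ[A] A :=
          (HomologicalComplex.singleObjXSelf (ComplexShape.up ℤ) 0 (ModuleCat.of A A)).toLinearEquiv
        refine ⟨AddMonoidHom.mk' (fun x => e.symm (θ (e x))) fun x y => by rw [map_add, map_add, map_add],
          fun a x => e.injective ?_⟩
        show e (e.symm (θ (e (a • x)))) = e (θ a • x + a • e.symm (θ (e x)))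
        simp only [map_smul, map_add, LinearEquiv.apply_symm_apply, smul_eq_mul, Derivation.leibniz]
        ring
      · haveI : Subsingleton (C.X p) := ModuleCat.isZero_iff_subsingleton.1
          (HomologicalComplex.isZero_single_obj_X (ComplexShape.up ℤ) 0 _ p hp)
        exact ⟨0, fun a x => Subsingleton.elim _ _⟩
    choose D hD using h
    refine ⟨D, hD, fun p p' hpp x => ?_⟩
    rw [show C.d p p' = 0 from HomologicalComplex.single_obj_d (c := ComplexShape.up ℤ) 0 _ p p']
    exact (map_zero (D p')).symm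
  | cons f fs ih =>
    obtain ⟨D, hD, hDd⟩ := ih
    let M := ModuleCat.of A A
    let C := DerCA.extCech M fs
    let L : ℤ → Type u := fun q => LocalizedModule (Submonoid.powers f) (C.X q)
    choose D' hD' hD'l using fun q : ℤ =>
      exists_localized (θ := θ) (Submonoid.powers f) (LocalizedModule.mkLinearMap _ (C.X q)) (X' := L q) (hD q)
    let K : ∀ p : ℤ, (DerCA.extCech M (f :: fs)).X p ≃ₗ[A] C.X p × L (p - 1) := fun p =>
      kl (DerCA.locCxUnit (Submonoid.powers f) C) (p - 1) p (by lia)
    let E : ∀ p : ℤ, (DerCA.extCech M (f :: fs)).X p →+ (DerCA.extCech M (f :: fs)).X p := fun p =>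
      AddMonoidHom.mk' (fun x => (K p).symm (D p (K p x).1, D' (p - 1) (K p x).2)) fun x y => by
        rw [← map_add, map_add (K p), Prod.fst_add, Prod.snd_add, map_add, map_add, Prod.mk_add_mk]
    have hE1 : ∀ p x, fC M f fs p (E p x) = D p (fC M f fs p x) := fun p x =>
      congrArg Prod.fst ((K p).apply_symm_apply _)
    have hE2 : ∀ q p (h : q + 1 = p) x, sC M f fs q p h (E p x) = D' q (sC M f fs q p h x) := by
      intro q p h x
      obtain rfl : q = p - 1 := by lia
      exact congrArg Prod.snd ((K p).apply_symm_apply _)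
    refine ⟨E, fun p a x => (K p).injective ?_, fun p p' h x => C_ext M f fs h ?_ ?_⟩
    · show K p ((K p).symm _) = K p (θ a • x + a • (K p).symm _)
      simp only [map_add, map_smul, LinearEquiv.apply_symm_apply, Prod.smul_fst, Prod.smul_snd,
        Prod.smul_mk]
      rw [hD p a, hD' (p - 1) a]
      rfl
    · rw [fC_d, hE1, hE1, fC_d, hDd p p' h]
    · rw [sC_d M f fs (q := p - 1) (by lia) h, hE1, hE2, hE2,
        sC_d M f fs (q := p - 1) (by lia) h, map_sub, map_neg]
      refine congrArg₂ (fun a b => -a - b) (hD'l p _).symm ?_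
      exact localized_comm (Submonoid.powers f) (LocalizedModule.mkLinearMap _ (C.X (p - 1)))
        (LocalizedModule.mkLinearMap _ (C.X p)) (C.d (p - 1) p).hom
        (lmap f (C.d (p - 1) p).hom) (fun y => lmap_mk f _ y 1)
        (hD' (p - 1)) (hD' p) (hD'l (p - 1)) (hD'l p) (hDd (p - 1) p (by lia)) _

/-- Descend a Leibniz operator to cohomology. -/
theorem exists_cohQ {P Q R : Type u} [AddCommGroup P] [Module A P] [AddCommGroup Q] [Module A Q]
    [AddCommGroup R] [Module A R] (f : P →ₗ[A] Q) (g : Q →ₗ[A] R) (DP : P →+ P) (DQ : Q →+ Q)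
    (DR : R →+ R) (hQ : Leib θ DQ) (hf : ∀ x, f (DP x) = DQ (f x)) (hg : ∀ x, g (DQ x) = DR (g x)) :
    ∃ D : H4LC.cohQ f g →+ H4LC.cohQ f g, Leib θ D := by
  let N := (LinearMap.range f).comap (LinearMap.ker g).subtype
  let δ : LinearMap.ker g →+ LinearMap.ker g := AddMonoidHom.mk'
    (fun z => ⟨DQ z.1, LinearMap.mem_ker.2 (by rw [hg, LinearMap.mem_ker.1 z.2, map_zero])⟩)
    fun z w => Subtype.ext (map_add DQ z.1 w.1)
  let π : LinearMap.ker g →+ H4LC.cohQ f g := N.mkQ.toAddMonoidHom
  let D : H4LC.cohQ f g →+ H4LC.cohQ f g := QuotientAddGroup.lift N.toAddSubgroup (π.comp δ) fun z hz => by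
    obtain ⟨x, hx⟩ := (show z ∈ N from hz)
    refine (Submodule.Quotient.mk_eq_zero N).2 ⟨DP x, ?_⟩
    rw [hf, hx]
    rfl
  refine ⟨D, fun a ξ => ?_⟩
  obtain ⟨z, rfl⟩ := Submodule.Quotient.mk_surjective N ξ
  show (Submodule.Quotient.mk (δ (a • z)) : H4LC.cohQ f g) =
    θ a • Submodule.Quotient.mk z + a • Submodule.Quotient.mk (δ z)
  rw [← Submodule.Quotient.mk_smul, ← Submodule.Quotient.mk_smul, ← Submodule.Quotient.mk_add]
  exact congrArg _ (Subtype.ext (hQ a z.1))

/-- A derivation acts on local cohomology of the ring. -/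
theorem exists_local (fs : List A) (i : ℕ) [IsNoetherianRing A] :
    ∃ D : LocCoh.H (listIdeal fs) i A →+ LocCoh.H (listIdeal fs) i A, Leib θ D := by
  obtain ⟨e⟩ := nonempty_cech_H fs i ((i : ℤ) - 1) i (i + 1) (by lia) rfl rfl (ModuleCat.of A A)
  obtain ⟨D, hD, hd⟩ := exists_op θ fs
  obtain ⟨D₀, h₀⟩ := exists_cohQ θ ((DerCA.extCech (ModuleCat.of A A) fs).d ((i : ℤ) - 1) i).hom
    ((DerCA.extCech (ModuleCat.of A A) fs).d i (i + 1)).hom (D _) (D _) (D _) (hD _)
    (hd _ _ (by lia)) (hd _ _ rfl)
  refine ⟨(e.toAddEquiv.toAddMonoidHom.comp D₀).comp e.symm.toAddEquiv.toAddMonoidHom, fun a ξ => ?_⟩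
  show e (D₀ (e.symm (a • ξ))) = θ a • ξ + a • e (D₀ (e.symm ξ))
  rw [map_smul, h₀, map_add, map_smul, map_smul, LinearEquiv.apply_symm_apply]

end Groth.Agent.H4DerLC
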