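import Groth.Agent.H4Matlis.Hull
import Groth.Agent.H4Matlis.Socle
import Mathlib.RingTheory.Derivation.Basic
import Mathlib.LinearAlgebra.FreeModule.Basic
import Mathlib.LinearAlgebra.DFinsupp
import Mathlib.RingTheory.LocalRing.ResidueField.Basic

/-!
# Power torsion modules with derivations are sums of injective hulls
-/

set_option autoImplicit false

universe u

open InjHull LocCoh IsLocalRing

namespace Groth.Agent.H4DerLC

variable {k A : Type u} [CommRing k] [CommRing A] [Algebra k A] {d : ℕ} {m : Ideal A} {x : Fin d → A}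
  {θ : Fin d → Derivation k A A}

/-- `θ` lowers the `m`-adic order by at most one. -/
theorem derivation_mem_pow (θ₀ : Derivation k A A) : ∀ (n : ℕ) {b : A}, b ∈ m ^ (n + 1) → θ₀ b ∈ m ^ n := by
  intro n
  induction n with
  | zero => intro b _; simp
  | succ n ih =>
    intro b hb
    rw [pow_succ] at hb
    refine Submodule.mul_induction_on hb (fun u hu v hv => ?_) fun u v hu hv => ?_
    · rw [Derivation.leibniz, smul_eq_mul, smul_eq_mul]
      refine Ideal.add_mem _ (Ideal.mul_mem_right _ _ hu) ?_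
      rw [pow_succ, mul_comm v]
      exact Ideal.mul_mem_mul (ih hu) hv
    · rw [map_add]
      exact Ideal.add_mem _ hu hv

variable (hm : m = Ideal.span (Set.range x)) (hθ : ∀ i j, θ i (x j) = if i = j then 1 else 0)
include hm hθ

/-- Euler's relation modulo a higher power. -/
theorem euler_mem : ∀ (n : ℕ) {b : A}, b ∈ m ^ n → (∑ i, x i * θ i b) - (n : A) * b ∈ m ^ (n + 1) := by
  have hx : ∀ i, x i ∈ m := fun i => hm ▸ Ideal.subset_span ⟨i, rfl⟩
  have h0 : ∀ u, (∑ i, x i * θ i u) ∈ m := fun u => Ideal.sum_mem _ fun i _ => Ideal.mul_mem_right _ _ (hx i)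
  have h1 : ∀ v ∈ m, (∑ i, x i * θ i v) - v ∈ m ^ 2 := by
    intro v hv
    rw [hm, Ideal.mem_span_range_iff_exists_fun] at hv
    obtain ⟨c, rfl⟩ := hv
    simp only [map_sum, Derivation.leibniz, smul_eq_mul, Finset.mul_sum, mul_add, Finset.sum_add_distrib]
    rw [Finset.sum_comm, show (∑ i, ∑ j, x i * (x j * θ i (c j))) = ∑ j, x j * ∑ i, x i * θ i (c j) by
      rw [Finset.sum_comm]; simp only [Finset.mul_sum]; exact Finset.sum_congr rfl fun j _ =>
        Finset.sum_congr rfl fun i _ => by ring]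
    have : (∑ j, ∑ i, x i * (c j * θ i (x j))) = ∑ j, c j * x j := Finset.sum_congr rfl fun j _ => by
      rw [Finset.sum_eq_single j]
      · rw [hθ, if_pos rfl]; ring
      · intro i _ hi; rw [hθ, if_neg hi, mul_zero, mul_zero]
      · simp
    rw [this, add_sub_cancel_left, pow_two]
    exact Ideal.sum_mem _ fun j _ => Ideal.mul_mem_mul (hx j) (h0 _)
  intro n
  induction n with
  | zero =>
    intro b _
    simpa using h0 b
  | succ n ih =>
    intro b hb
    rw [pow_succ] at hb
    refine Submodule.mul_induction_on hb (fun u hu v hv => ?_) fun u v hu hv => ?_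
    · have : (∑ i, x i * θ i (u * v)) - ((n + 1 : ℕ) : A) * (u * v) =
          ((∑ i, x i * θ i u) - (n : A) * u) * v + u * ((∑ i, x i * θ i v) - v) := by
        rw [sub_mul, mul_sub, Finset.sum_mul, Finset.mul_sum]
        simp only [Derivation.leibniz, smul_eq_mul, mul_add, Finset.sum_add_distrib]
        push_cast
        rw [Finset.sum_congr rfl fun i _ => show x i * (v * θ i u) = x i * θ i u * v by ring,
          Finset.sum_congr rfl fun i _ => show x i * (u * θ i v) = u * (x i * θ i v) by ring]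
        ring
      rw [this, pow_succ _ (n + 1)]
      refine Ideal.add_mem _ (Ideal.mul_mem_mul (ih hu) hv) ?_
      rw [← pow_succ, show n + 1 + 1 = n + 2 from rfl, pow_add]
      exact Ideal.mul_mem_mul hu (h1 v hv)
    · simp only [map_add, mul_add, Finset.sum_add_distrib]
      rw [add_sub_add_comm]
      exact Ideal.add_mem _ hu hv

variable (hn : ∀ n : ℕ, IsUnit ((n + 1 : ℕ) : A))
  {M : Type u} [AddCommGroup M] [Module A M] (D : Fin d → M →+ M)
  (hD : ∀ i (f : A) (z : M), D i (f • z) = θ i f • z + f • D i z)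
include hn hD

/-- Every socle valued map on `m ^ n` is a multiplication. -/
theorem exists_smul_eq : ∀ (n : ℕ) (ψ : ↥(m ^ n) →ₗ[A] M),
    (∀ a, ∀ c ∈ m, c • ψ a = 0) → ∃ z : M, ∀ a : ↥(m ^ n), (a : A) • z = ψ a := by
  have hx : ∀ i, x i ∈ m := fun i => hm ▸ Ideal.subset_span ⟨i, rfl⟩
  intro n
  induction n with
  | zero =>
    intro ψ _
    refine ⟨ψ ⟨1, by simp⟩, fun a => ?_⟩
    rw [← map_smul]
    exact congrArg ψ (Subtype.ext (by simp))
  | succ n ih =>
    intro ψ hψ
    let ψi : Fin d → (↥(m ^ n) →ₗ[A] M) := fun i => ψ ∘ₗ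
      LinearMap.codRestrict _ (x i • (m ^ n).subtype) (fun a => by
        rw [pow_succ', LinearMap.smul_apply, smul_eq_mul]
        exact Ideal.mul_mem_mul (hx i) a.2)
    choose z hz using fun i => ih (ψi i) fun a => hψ _
    have hzero : ∀ i, ∀ b ∈ m ^ (n + 1), b • z i = 0 := by
      intro i b hb
      rw [pow_succ'] at hb
      refine Submodule.mul_induction_on hb (fun c hc a ha => ?_) fun u v hu hv => ?_
      · rw [mul_smul, hz i ⟨a, ha⟩]
        exact hψ _ c hc
      · rw [add_smul, hu, hv, add_zero]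
    have hψ0 : ∀ (b : A) (h : b ∈ m ^ (n + 1)), b ∈ m ^ (n + 2) → ψ ⟨b, h⟩ = 0 := by
      intro b h hb
      rw [pow_succ'] at hb
      suffices ∃ h' : b ∈ m ^ (n + 1), ψ ⟨b, h'⟩ = 0 from this.2
      refine Submodule.mul_induction_on hb (fun c hc a ha => ?_) fun u v hu hv => ?_
      · exact ⟨Ideal.mul_mem_left _ c ha, (map_smul ψ c ⟨a, ha⟩).trans (hψ _ c hc)⟩
      · obtain ⟨h1, e1⟩ := hu
        obtain ⟨h2, e2⟩ := hv
        exact ⟨add_mem h1 h2, (map_add ψ ⟨u, h1⟩ ⟨v, h2⟩).trans (by rw [e1, e2, add_zero])⟩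
    refine ⟨-(↑(hn n).unit⁻¹ : A) • ∑ i, D i (z i), fun b => ?_⟩
    have key : ∀ i, (b : A) • D i (z i) = - ψi i ⟨θ i b, derivation_mem_pow (θ i) n b.2⟩ := by
      intro i
      rw [← hz i, eq_neg_iff_add_eq_zero, add_comm]
      exact (hD i b (z i)).symm.trans (by rw [hzero i b b.2, map_zero])
    rw [smul_comm, Finset.smul_sum, Finset.sum_congr rfl fun i _ => key i, Finset.sum_neg_distrib,
      smul_neg, neg_smul, neg_neg]
    have hsum : (∑ i, ψi i ⟨θ i b, derivation_mem_pow (θ i) n b.2⟩) = ((n + 1 : ℕ) : A) • ψ b := by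
      simp only [ψi, LinearMap.comp_apply]
      rw [← map_sum, ← map_smul, ← sub_eq_zero, ← map_sub]
      refine (congrArg ψ (Subtype.ext ?_)).trans (hψ0 _ ?_ (euler_mem hm hθ (n + 1) b.2))
      · simp
      · exact Ideal.pow_le_pow_right (by omega) (euler_mem hm hθ (n + 1) b.2)
    rw [hsum, smul_smul, IsUnit.val_inv_mul, one_smul]

end Groth.Agent.H4DerLC

namespace Groth.Agent.H4DerLC

/-- Lyubeznik's lemma. -/
theorem exists_sum_hull {k A : Type u} [CommRing k] [CommRing A] [Algebra k A] [IsLocalRing A]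
    [IsNoetherianRing A] {d : ℕ} {x : Fin d → A} {θ : Fin d → Derivation k A A}
    (hm : maximalIdeal A = Ideal.span (Set.range x)) (hθ : ∀ i j, θ i (x j) = if i = j then 1 else 0)
    (hn : ∀ n : ℕ, IsUnit ((n + 1 : ℕ) : A)) {E : Type u} [AddCommGroup E] [Module A E]
    (e : ResidueField A →ₗ[A] E) (he : IsInjectiveHull e) (M : Type u) [AddCommGroup M] [Module A M]
    (hM : IsPowerTorsion (maximalIdeal A) M) (D : Fin d → M →+ M)
    (hD : ∀ i (f : A) (z : M), D i (f • z) = θ i f • z + f • D i z) :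
    ∃ J : Type u, Nonempty (M ≃ₗ[A] (J →₀ E)) := by
  classical
  let m := maximalIdeal A
  let S : Submodule A M := torsionBy m M
  let : Module (A ⧸ m) S :=
    Module.IsTorsionBySet.module (Submodule.torsionBySet_isTorsionBySet (R := A) (M := M) (m : Set A))
  have : IsScalarTower A (A ⧸ m) S := ⟨fun a b w => by
    induction b using Submodule.Quotient.induction_on with
    | H b => exact mul_smul a b w⟩
  let : Field (A ⧸ m) := Ideal.Quotient.field m
  let J := Module.Free.ChooseBasisIndex (A ⧸ m) S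
  let ρ : S ≃ₗ[A] (J →₀ A ⧸ m) := (Module.Free.chooseBasis (A ⧸ m) S).repr.restrictScalars A
  let eJ : (J →₀ A ⧸ m) →ₗ[A] (J →₀ E) :=
    Finsupp.mapRange.linearMap (α := J) (e : (A ⧸ m) →ₗ[A] E)
  have heJ : Function.Injective eJ :=
    Finsupp.mapRange_injective _ (map_zero e) he.injective
  have hinj : Module.Injective A (J →₀ E) :=
    H4Inj.injective_of_equiv (finsuppLEquivDirectSum A E J) (H4Inj.injective_directSum _ fun _ => he.isInjective)
  obtain ⟨φ, hφ⟩ := Module.Injective.extension_property (inj := hinj) A (J →₀ E) S M S.subtype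
    Subtype.val_injective (eJ ∘ₗ ρ.toLinearMap)
  have hφS : ∀ s : S, φ s = eJ (ρ s) := LinearMap.congr_fun hφ
  have hsocle : ∀ y : J →₀ E, (∀ a ∈ m, a • y = 0) → ∃ s : S, φ s = y := by
    intro y hy
    choose q hq using fun j => H4Matlis.mem_range_of_killed (m := m) he.toIsEssentialInj
      (x := y j) fun a ha => DFunLike.congr_fun (hy a ha) j
    let q' : J →₀ A ⧸ m := Finsupp.onFinset y.support q fun j hj => by
      rw [Finsupp.mem_support_iff]
      intro h0
      exact hj (he.injective ((hq j).trans (h0.trans (map_zero e).symm)))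
    refine ⟨ρ.symm q', ?_⟩
    rw [hφS, LinearEquiv.apply_symm_apply]
    exact Finsupp.ext fun j => hq j
  have hinjφ : Function.Injective φ := by
    refine (injective_iff_map_eq_zero φ).2 fun z hz => ?_
    by_contra hz0
    obtain ⟨r, hr, hr0⟩ := H4Matlis.exists_least_torsion hM hz0
    have h1 : eJ (ρ ⟨r • z, hr⟩) = 0 := by
      rw [← hφS]
      show φ (r • z) = 0
      rw [map_smul, hz, smul_zero]
    exact hr0 (congrArg Subtype.val (ρ.injective (heJ (h1.trans (by simp)) : ρ ⟨r • z, hr⟩ = ρ 0)))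
  have hsurj : ∀ (n : ℕ) (y : J →₀ E), (∀ a ∈ m ^ n, a • y = 0) → y ∈ LinearMap.range φ := by
    intro n
    induction n with
    | zero =>
      intro y hy
      rw [← one_smul A y, hy 1 (by simp)]
      exact zero_mem _
    | succ n ih =>
      intro y hy
      have hex : ∀ a : ↥(m ^ n), ∃ s : S, φ s = (a : A) • y := fun a => hsocle _ fun c hc => by
        rw [smul_smul]
        exact hy _ (by rw [pow_succ']; exact Ideal.mul_mem_mul hc a.2)
      choose s hs using hex
      let ψ : ↥(m ^ n) →ₗ[A] M :=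
        { toFun := fun a => s a
          map_add' := fun a b => hinjφ (by rw [map_add, hs, hs, hs]; exact add_smul _ _ _)
          map_smul' := fun c a => hinjφ (by
            rw [RingHom.id_apply, map_smul, hs, hs, smul_smul]
            rfl) }
      obtain ⟨z, hz⟩ := exists_smul_eq hm hθ hn D hD n ψ fun a c hc =>
        (Submodule.mem_torsionBySet_iff _ _).1 (s a).2 ⟨c, hc⟩
      obtain ⟨w, hw⟩ := ih (y - φ z) fun a ha => by
        rw [smul_sub, ← map_smul, hz ⟨a, ha⟩]
        exact sub_eq_zero.2 (hs ⟨a, ha⟩).symm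
      exact ⟨w + z, by rw [map_add, hw, sub_add_cancel]⟩
  have hEt : IsPowerTorsion m E := H4Matlis.isPowerTorsion (m := m) he
  refine ⟨J, ⟨LinearEquiv.ofBijective φ ⟨hinjφ, fun y => ?_⟩⟩⟩
  choose N hN using fun j => hEt (y j)
  obtain ⟨w, hw⟩ := hsurj (y.support.sup N) y fun a ha => Finsupp.ext fun j => by
    by_cases hj : j ∈ y.support
    · exact hN j a (Ideal.pow_le_pow_right (Finset.le_sup hj) ha)
    · rw [Finsupp.smul_apply, Finsupp.notMem_support_iff.1 hj, smul_zero]; rfl
  exact ⟨w, hw⟩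

end Groth.Agent.H4DerLC
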